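import Groth.Agent.Lib.LocConst.Chart
import Groth.Agent.Lib.LocConst.Serre
import Groth.Agent.Lib.EtSite.ConnFibres
import Groth.Agent.Lib.TrivMod.Et
import Groth.Prelude.Def_EtRestW

/-!
# The comparison with a constant sheaf given by a chart, and its naturality
-/

set_option autoImplicit false
set_option backward.isDefEq.respectTransparency false
set_option backward.isDefEq.respectTransparency.types false

universe u

open CategoryTheory CategoryTheory.Limits AlgebraicGeometry Opposite
open GrothLib.EtSite GrothLib.LocConst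

noncomputable section

namespace GrothLib.ChartIso18

variable {X : Scheme.{u}} {F G : EtCoh.Ab X} {U : X.Etale}
variable {M : Type (u + 1)} [AddCommGroup M] {N : Type (u + 1)} [AddCommGroup N]

/-- The map from the constant presheaf on the slice. -/
def chartMor (a : M →+ EtCoh.sect F U) :
    (Functor.const (Over U)ᵒᵖ).obj (AddCommGrpCat.of M) ⟶ (F.over U).obj where
  app V := AddCommGrpCat.ofHom ((F.obj.map V.unop.hom.op).hom.comp a)
  naturality V W k := by
    ext x
    show F.obj.map W.unop.hom.op (a x) = F.obj.map k.unop.left.op (F.obj.map V.unop.hom.op (a x))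
    rw [← Over.w k.unop, op_comp, Functor.map_comp, ConcreteCategory.comp_apply]

theorem isIso_map_chartMor {a : M →+ EtCoh.sect F U} (h : IsChart F U a) :
    IsIso ((presheafToSheaf (X.smallEtaleTopology.over U) AddCommGrpCat.{u + 1}).map (chartMor a)) := by
  haveI : Presheaf.IsLocallyInjective (X.smallEtaleTopology.over U) (chartMor a) := ⟨fun {V} x y hxy => by
    let W : X.Etale := V.unop.left
    rcases isEmpty_or_nonempty W.left with hW | ⟨⟨z⟩⟩
    · refine (X.smallEtaleTopology.over U).superset_covering bot_le ?_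
      rw [GrothendieckTopology.mem_over_iff]
      exact TrivEt.mem_of_forall _ fun y => (hW.false y).elim
    · obtain ⟨Ω, _, _, ξ, t, -⟩ := ConnFibres.exists_point W z
      obtain rfl : x = y := (h Ω ξ ((Scheme.pointSmallEtale ξ).fiber.map V.unop.hom t)).1 (by
        show germ ξ F _ (a x) = germ ξ F _ (a y)
        rw [← germ_map, ← germ_map]
        exact congrArg (germ ξ F t) hxy)
      simp⟩
  haveI : Presheaf.IsLocallySurjective (X.smallEtaleTopology.over U) (chartMor a) := ⟨fun {V} s => by
    let W : X.Etale := V.left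
    have key : ∀ z : W.left, ∃ (T : X.Etale) (g : T ⟶ W) (w : T.left) (m : M), g.left w = z ∧
        F.obj.map g.op (F.obj.map V.hom.op (a m)) = F.obj.map g.op s := fun z => by
      obtain ⟨Ω, _, _, ξ, t, ht⟩ := ConnFibres.exists_point W z
      obtain ⟨m, hm⟩ := (h Ω ξ ((Scheme.pointSmallEtale ξ).fiber.map V.hom t)).2 (germ ξ F t s)
      obtain ⟨T, g, v, hv, hg⟩ := (germ_eq_iff ξ F t (F.obj.map V.hom.op (a m)) s).1
        ((germ_map ξ F V.hom t (a m)).trans hm)
      exact ⟨T, g, v.left.base (default : Spec (CommRingCat.of Ω)), m, by rw [← ht, ← hv]; rfl, hg⟩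
    rw [GrothendieckTopology.mem_over_iff]
    refine TrivEt.mem_of_forall _ fun z => ?_
    obtain ⟨T, g, w, m, hw, hm⟩ := key z
    refine ⟨T, g, w, ?_, hw⟩
    rw [Sieve.overEquiv_iff]
    refine ⟨m, ?_⟩
    show F.obj.map (g ≫ V.hom).op (a m) = F.obj.map g.op s
    rw [op_comp, Functor.map_comp, ConcreteCategory.comp_apply]
    exact hm⟩
  have hg : (X.smallEtaleTopology.over U).W (chartMor a) :=
    (X.smallEtaleTopology.over U).W_of_isLocallyBijective _
  rw [GrothendieckTopology.W_iff] at hg
  exact hg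

/-- The isomorphism with the constant sheaf given by a chart. -/
def chartIso {a : M →+ EtCoh.sect F U} (h : IsChart F U a) :
    EtCoh.restr F U ≅
      (constantSheaf (X.smallEtaleTopology.over U) AddCommGrpCat.{u + 1}).obj (AddCommGrpCat.of M) :=
  haveI := isIso_map_chartMor h
  (asIso ((presheafToSheaf (X.smallEtaleTopology.over U) AddCommGrpCat.{u + 1}).map (chartMor a)) ≪≫
    asIso ((sheafificationAdjunction (X.smallEtaleTopology.over U) AddCommGrpCat.{u + 1}).counit.app
      (F.over U))).symm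

theorem chartIso_naturality {a : M →+ EtCoh.sect F U} {b : N →+ EtCoh.sect G U}
    (ha : IsChart F U a) (hb : IsChart G U b) (φ : F ⟶ G) (h : M →+ N)
    (hh : ∀ x, φ.hom.app (op U) (a x) = b (h x)) :
    (X.smallEtaleTopology.overPullback AddCommGrpCat.{u + 1} U).map φ ≫ (chartIso hb).hom =
      (chartIso ha).hom ≫ (constantSheaf (X.smallEtaleTopology.over U) AddCommGrpCat.{u + 1}).map
        (AddCommGrpCat.ofHom h) := by
  let K := X.smallEtaleTopology.over U
  let φ' := (X.smallEtaleTopology.overPullback AddCommGrpCat.{u + 1} U).map φ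
  have key : chartMor a ≫ φ'.hom =
      (Functor.const (Over U)ᵒᵖ).map (AddCommGrpCat.ofHom h) ≫ chartMor b := by
    ext V x
    show φ.hom.app _ (F.obj.map V.unop.hom.op (a x)) = G.obj.map V.unop.hom.op (b (h x))
    rw [← hh]
    exact NatTrans.naturality_apply φ.hom V.unop.hom.op _
  let P := presheafToSheaf K AddCommGrpCat.{u + 1}
  let ε := (sheafificationAdjunction K AddCommGrpCat.{u + 1}).counit
  have h1 : (chartIso ha).inv ≫ φ' =
      (constantSheaf K AddCommGrpCat.{u + 1}).map (AddCommGrpCat.ofHom h) ≫ (chartIso hb).inv := by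
    show (P.map (chartMor a) ≫ ε.app (F.over U)) ≫ φ' =
      P.map ((Functor.const (Over U)ᵒᵖ).map (AddCommGrpCat.ofHom h)) ≫
        (P.map (chartMor b) ≫ ε.app (G.over U))
    have hn : P.map φ'.hom ≫ ε.app (G.over U) = ε.app (F.over U) ≫ φ' := ε.naturality φ'
    rw [Category.assoc, ← hn, ← Category.assoc, ← P.map_comp, key, P.map_comp, Category.assoc]
  rw [← cancel_epi (chartIso ha).inv, Iso.inv_hom_id_assoc, reassoc_of% h1, Iso.inv_hom_id,
    Category.comp_id]

/-- A map to a locally constant sheaf from a finite locally constant one is locally given by a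
homomorphism of groups. -/
theorem exists_local_hom (φ : F ⟶ G) (hF : EtCoh.IsFiniteLocallyConstant F)
    (hG : EtRest.IsLocallyConstant G) :
    ∃ (ι : Type u) (U : ι → X.Etale), EtCoh.Covers U ∧ ∀ i, ∃ (M N : Type (u + 1)) (_ : AddCommGroup M)
      (_ : AddCommGroup N) (h : M →+ N)
      (α : EtCoh.restr F (U i) ≅
        (constantSheaf (X.smallEtaleTopology.over (U i)) AddCommGrpCat.{u + 1}).obj (AddCommGrpCat.of M))
      (β : EtCoh.restr G (U i) ≅
        (constantSheaf (X.smallEtaleTopology.over (U i)) AddCommGrpCat.{u + 1}).obj (AddCommGrpCat.of N)),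
      (X.smallEtaleTopology.overPullback AddCommGrpCat.{u + 1} (U i)).map φ ≫ β.hom = α.hom ≫
        (constantSheaf (X.smallEtaleTopology.over (U i)) AddCommGrpCat.{u + 1}).map (AddCommGrpCat.ofHom h) := by
  have key : ∀ x : X, ∃ (W : X.Etale) (w : W.left), W.hom.base w = x ∧
      ∃ (M N : Type (u + 1)) (_ : AddCommGroup M) (_ : AddCommGroup N) (h : M →+ N)
        (a : M →+ EtCoh.sect F W) (b : N →+ EtCoh.sect G W), IsChart F W a ∧ IsChart G W b ∧
          ∀ m, φ.hom.app (op W) (a m) = b (h m) := fun x => by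
    obtain ⟨M, _, hM, U₁, u₁, hu₁, a, ha⟩ : ∃ (M : Type) (_ : AddCommGroup M) (_ : Finite M)
        (U₁ : X.Etale) (u₁ : U₁.left), U₁.hom.base u₁ = x ∧
        ∃ a : M →+ EtCoh.sect F U₁, IsChart F U₁ a := by
      obtain ⟨U₁, u₁, hu₁, M, i, hM, a, ha⟩ := (flc_iff_charts F).1 hF x
      exact ⟨M, i, hM, U₁, u₁, hu₁, a, ha⟩
    obtain ⟨ι, V, hV, hV'⟩ := hG
    obtain ⟨i, v, hv⟩ := hV x
    obtain ⟨N, _, hN⟩ := hV' i
    obtain ⟨b, hb⟩ := (restr_iso_const_iff_chart G (V i) _).1 hN
    let Ω := SeparableClosure (X.residueField x)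
    let ξ : Spec (CommRingCat.of Ω) ⟶ X := gpt x
    obtain ⟨t, -⟩ := exists_fib ξ u₁ (hu₁.trans (gpt_default x).symm)
    obtain ⟨s, -⟩ := exists_fib ξ v (hv.trans (gpt_default x).symm)
    obtain ⟨W, w, g₁, g₂, -, -⟩ := exists_refine₂ ξ t s
    have ha' := ha.map g₁
    have hb' := hb.map g₂
    let a' := (F.obj.map g₁.op).hom.comp a
    let b' := (G.obj.map g₂.op).hom.comp b
    let eN : (N : Type (u + 1)) ≃+ (EtCoh.stalk ξ).obj G :=
      AddEquiv.ofBijective ((germ ξ G w).hom.comp b') (hb' Ω ξ w)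
    let h : M →+ N := eN.symm.toAddMonoidHom.comp
      ((germ ξ G w).hom.comp ((φ.hom.app (op W)).hom.comp a'))
    obtain ⟨T, k, t₁, -, hT⟩ := exists_refine_eq ξ G w (fun m => φ.hom.app (op W) (a' m))
      (fun m => b' (h m)) (fun m => (eN.apply_symm_apply _).symm)
    refine ⟨T, t₁.left.base (default : Spec (CommRingCat.of Ω)), ?_, ULift.{u + 1} M, N, inferInstance, inferInstance,
      h.comp AddEquiv.ulift.toAddMonoidHom, ((F.obj.map k.op).hom.comp a').comp AddEquiv.ulift.toAddMonoidHom,
      (G.obj.map k.op).hom.comp b', (ha'.map k).comp_equiv AddEquiv.ulift, hb'.map k, fun m => ?_⟩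
    · have := congrArg (fun q => q.base (default : Spec (CommRingCat.of Ω))) (Over.w t₁)
      exact this.trans (gpt_default x)
    · exact (NatTrans.naturality_apply φ.hom k.op _).trans (hT _)
  choose W w hw M N i₁ i₂ h a b ha hb hh using key
  exact ⟨X, W, fun x => ⟨x, w x, hw x⟩, fun x => ⟨M x, N x, i₁ x, i₂ x, h x,
    chartIso (ha x), chartIso (hb x), chartIso_naturality (ha x) (hb x) φ (h x) (hh x)⟩⟩

end GrothLib.ChartIso18
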